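import Cfsg.Agent.H98.Pw.Cen
import Cfsg.Agent.H150.F43.Step
import Cfsg.Agent.H150.F43.Swap
import Cfsg.Agent.H750.F43.UTwo

/-!
# Mixed elements of `C(z)` in `F₄(3)`: the abstract form (helper98, for S2465, block E)

* `rel_one` : `Rel A 1` only for `A = 1`;
* `pr_abs` : `H = C_G(z)`, `f : H → Sp₆(3)` surjective with extraspecial kernel of order `3¹⁵`, `kap : ker f → V₁₄`:
  all elements `s u`, `s ≠ 1` a 2-element, `u ≠ 1` a 3-element.
-/

set_option autoImplicit false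

namespace Cfsg.Agent.H98.F43

open Subgroup
open Cfsg.Agent.H323.Pw Cfsg.Agent.H78.Pw
open Cfsg.Agent.H700.F43 Cfsg.Agent.H267.SpFx Cfsg.Agent.H150.F43.Step Cfsg.Agent.H98.Pw

universe v

theorem rel_pow {A : Sp} {X : V14 →ₗ[F3] V14} (h : Rel A X) (n : ℕ) : Rel (A ^ n) (X ^ n) := by
  induction n with
  | zero => exact Rel.one
  | succ n ih =>
    rw [pow_succ, pow_succ]
    exact ih.mul h

theorem ng_mul_ng : (ng : Sp) * ng = 1 := by
  apply lm_inj
  rw [lm_mul, lm_ng, lm_one]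
  apply LinearMap.ext
  intro y
  exact neg_neg y

/-- `Sp₆(3)` acts faithfully on `V₁₄` -/
theorem rel_one {A : Sp} (h : Rel A 1) : A = 1 := by
  by_contra h1
  have h2 : A ≠ ng := by
    rintro rfl
    have h3 := rel_unique h rel_ng
    have h4 := LinearMap.congr_fun h3 (Pi.single 0 1)
    have h5 := congrFun h4 0
    revert h5
    simp
    decide
  obtain ⟨g, A₁, A₂, he, h13, -, -, -, hfix⟩ := frame13 h1 h2
  obtain ⟨N, hN⟩ := exists_rel g
  obtain ⟨N', hN'⟩ := exists_rel g⁻¹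
  obtain ⟨M₁, hM₁⟩ := exists_rel A₁
  obtain ⟨M₂, hM₂⟩ := exists_rel A₂
  obtain ⟨M₁', hM₁'⟩ := exists_rel A₁⁻¹
  have n1 : N * N' = 1 := rel_unique (by have := hN.mul hN'; rwa [mul_inv_cancel] at this) Rel.one
  have e1 : M₁ * M₂ = 1 := by
    have h3 := (hN.mul h).mul hN'
    rw [he, mul_one, n1] at h3
    exact rel_unique (hM₁.mul hM₂) h3
  have e2 : M₁' * M₁ = 1 := rel_unique (by have := hM₁'.mul hM₁; rwa [inv_mul_cancel] at this) Rel.one
  have e3 : ∀ φ, M₁ φ = φ → φ = 0 := by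
    intro φ hφ
    refine hfix M₁ M₂ hM₁ hM₂ φ hφ ?_
    have h3 : M₁ (M₂ φ) = φ := LinearMap.congr_fun e1 φ
    have h4 : M₁' (M₁ (M₂ φ)) = M₂ φ := LinearMap.congr_fun e2 (M₂ φ)
    have h5 : M₁' (M₁ φ) = φ := LinearMap.congr_fun e2 φ
    rw [← h4, h3]
    nth_rewrite 1 [← hφ]
    exact h5
  have e4 : M₁ ^ 13 = 1 := by
    have h3 := rel_pow hM₁ 13
    rw [h13] at h3
    exact rel_unique h3 Rel.one
  classical
  let F : Function.End V14 := fun φ => M₁ φ
  have hF : ∀ (n : ℕ) (φ : V14), (F ^ n) φ = (M₁ ^ n) φ := by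
    intro n
    induction n with
    | zero => intro φ; rfl
    | succ n ih =>
      intro φ
      rw [pow_succ', pow_succ']
      show M₁ ((F ^ n) φ) = M₁ ((M₁ ^ n) φ)
      rw [ih]
  have hF1 : F ^ 13 ^ 1 = 1 := by
    funext φ
    rw [pow_one, hF, e4]
    rfl
  haveI : Fact (Nat.Prime 13) := ⟨by norm_num⟩
  have hmod := Equiv.Perm.card_fixedPoints_modEq hF1
  have hone : Fintype.card (Function.fixedPoints F) = 1 := by
    rw [Fintype.card_eq_one_iff]
    refine ⟨⟨0, map_zero M₁⟩, ?_⟩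
    rintro ⟨φ, hφ⟩
    exact Subtype.ext (e3 φ hφ)
  rw [hone, Fintype.card_fun, ZMod.card, Fintype.card_fin] at hmod
  revert hmod
  decide

section

variable {G : Type v} [Group G]

theorem pr_conj {n : ℕ} (x g : G) (h : Pr n (x * g * x⁻¹)) : Pr n g := Pr.of_conj h

/-- **Mixed elements of `H = C(z)`, abstract form.** -/
theorem pr_abs [Finite G] {H : Subgroup G} {z : H}
    (hH : ∀ g : G, g ∈ H ↔ g * z = z * g) (f : H →* Sp) (hsurj : Function.Surjective f) (h : XS 3 f.ker z)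
    (hQ : Nat.card f.ker = 3 ^ 15) {kap : H → V14} (hk : Kap f z kap)
    (SMALL : ∀ g : G, Nat.card (centralizer ({g} : Set G)) ≤ 4976985092 → Pr 6 g)
    {t : H} (ht : ∀ x ∈ f.ker, kap (t * x * t⁻¹) = - kap x)
    (E2 : ∀ (s w : H) (k : ℕ), s ^ 2 ^ k = 1 → t⁻¹ * s ∈ f.ker → w ∈ zpowers z → Pr 6 ((s : G) * w))
    {xb : H} {c : ZMod 3} (hc0 : c ≠ 0)
    (hT : ∀ y : V6, (f xb).1.mulVec y = y + (c * y (Sum.inr 2)) • e3)
    (KK : ∀ c : H, f c * f xb = f xb * f c → ∃ q ∈ f.ker, c * q * xb = xb * (c * q))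
    {n : G} (n1 : n * xb * n⁻¹ = z) (n2 : n * z * n⁻¹ = xb)
    {s u : H} {k j : ℕ} (hs : s ^ 2 ^ k = 1) (hu : u ^ 3 ^ j = 1) (hc : s * u = u * s)
    (hs1 : s ≠ 1) (hu1 : u ≠ 1) : Pr 6 ((s : G) * u) := by
  haveI : Finite f.ker := Nat.finite_of_card_ne_zero (by rw [hQ]; norm_num)
  haveI : Finite (zpowers z) := Nat.finite_of_card_ne_zero (by rw [Nat.card_zpowers, h.ord]; norm_num)
  -- `kap` is surjective
  have hkz : ∀ x ∈ f.ker, ∀ y ∈ f.ker, kap x = kap y → x⁻¹ * y ∈ zpowers z := by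
    intro x hx y hy hxy
    rw [← hk.ker _ (mul_mem (inv_mem hx) hy), hk.mul _ (inv_mem hx) _ hy, hk.inv hx, hxy, neg_add_cancel]
  have hsur : ∀ φ : V14, ∃ x ∈ f.ker, kap x = φ := by
    let κ : f.ker → V14 := fun x => kap x
    have hle : Nat.card f.ker ≤ Nat.card (Set.range κ) * Nat.card (zpowers z) := by
      rw [← Nat.card_prod]
      have hsec : ∀ y : Set.range κ, ∃ x : f.ker, κ x = y := fun y => y.2
      choose r hr using hsec
      refine Nat.card_le_card_of_injective (fun x => (⟨κ x, x, rfl⟩, ⟨((r ⟨κ x, x, rfl⟩ : f.ker) : H)⁻¹ * x,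
        hkz _ (r _).2 _ x.2 (hr ⟨κ x, x, rfl⟩)⟩)) ?_
      intro x y hxy
      have h4 : κ x = κ y := congrArg (fun p => (p.1 : V14)) hxy
      have h5 : (⟨κ x, x, rfl⟩ : Set.range κ) = ⟨κ y, y, rfl⟩ := Subtype.ext h4
      have h6 : ((r ⟨κ x, x, rfl⟩ : f.ker) : H)⁻¹ * x = ((r ⟨κ y, y, rfl⟩ : f.ker) : H)⁻¹ * y :=
        congrArg (fun p => (p.2 : H)) hxy
      rw [h5] at h6
      exact Subtype.ext (mul_left_cancel h6)
    rw [hQ, Nat.card_zpowers, h.ord, Nat.card_coe_set_eq] at hle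
    have hV : Nat.card V14 = 3 ^ 14 := by rw [Nat.card_fun, Nat.card_zmod, Nat.card_fin]
    have h4 : Set.range κ = Set.univ := by
      refine Set.eq_of_subset_of_ncard_le (Set.subset_univ _) ?_ (Set.toFinite _)
      rw [Set.ncard_univ, hV]
      omega
    intro φ
    have h5 : φ ∈ Set.range κ := by rw [h4]; trivial
    obtain ⟨x, hx⟩ := h5
    exact ⟨x, x.2, hx⟩
  -- `g` trivial on `Q / Z`
  have key : ∀ (g : H) (M : V14 →ₗ[F3] V14), (∀ x ∈ f.ker, kap (g * x * g⁻¹) = M (kap x)) → Rel (f g) M := by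
    intro g M hM
    obtain ⟨X, hX⟩ := exists_rel (f g)
    have h3 : M = X := by
      apply LinearMap.ext
      intro φ
      obtain ⟨x, hx, rfl⟩ := hsur φ
      rw [← hM x hx, hk.act g x hx X hX]
    rw [h3]
    exact hX
  have htn : f t = ng := by
    have h3 : Rel (f t) (-1) := key t (-1) (fun x hx => ht x hx)
    have h4 := h3.mul rel_ng
    have h5 : ((-1 : V14 →ₗ[F3] V14) * -1) = 1 := by
      apply LinearMap.ext
      intro φ
      exact neg_neg φ
    rw [h5] at h4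
    have h6 := rel_one h4
    have h7 : f t = (f t * ng) * ng := by rw [mul_assoc, ng_mul_ng, mul_one]
    rw [h7, h6, one_mul]
  have hodd : ∀ (u : H) (k : ℕ), u ^ 3 ^ k = 1 → Odd (orderOf (f u)) := by
    intro u k hu
    refine Odd.of_dvd_nat (Odd.pow (n := k) (by decide : Odd 3)) (orderOf_dvd_of_pow_eq_one ?_)
    rw [← map_pow, hu, map_one]
  refine mixed_all (P := fun g => Pr 6 g) (fun x g => pr_conj x g) hH h hQ f rfl hsurj htn ?_ ?_ ?_ ?_ SMALL E2 hc0 hT ?_ KK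
    n1 n2 hs hu hc hs1 hu1
  · -- STEP
    intro g hg1 hg2 hor
    have h1 : f g ≠ 1 := hg1
    have h2 : f g ≠ ng := by
      intro h3
      apply hg2
      rw [MonoidHom.mem_ker, map_mul, map_inv, htn, h3, inv_mul_cancel]
    have h3 : Pr 6 g := by
      refine step hsurj h hQ hk h1 h2 ?_
      rcases hor with ⟨q, hq, hq1, hq2⟩ | hor
      · exact Or.inl (exists_conj_of_hom h hq1 hq2 hq)
      · exact Or.inr hor
    exact h3.of_sub
  · -- F9
    intro u k hu huQ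
    obtain ⟨X, hX⟩ := exists_rel (f u)
    have h3 := (Cfsg.Agent.H750.F43.fix_le exists_rel (l := f u) huQ (hodd u k hu) hX).1
    calc _ ≤ 3 * 3 ^ Module.finrank F3 (LinearMap.ker (X - 1)) := card_fixX_le_finrank hk h.ord hX
      _ ≤ 3 * 3 ^ 9 := Nat.mul_le_mul_left _ (Nat.pow_le_pow_right (by norm_num) h3)
      _ = 3 ^ 10 := by norm_num
  · -- INV
    intro x hx hx2
    rw [hk.fix_iff hx (M := -1) (by rw [htn]; exact rel_ng)] at hx2
    rw [← hk.ker x hx]
    have h3 : -kap x = kap x := hx2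
    funext i
    have h4 := congrFun h3 i
    revert h4
    generalize kap x = φ
    show -(φ i) = φ i → φ i = 0
    generalize φ i = a
    revert a
    decide
  · -- FAITH
    intro g hg
    have h3 : Rel (f g) 1 := key g 1 (fun x hx => by
      obtain ⟨X, hX⟩ := exists_rel (f g)
      rw [hk.act g x hx X hX]
      exact (hk.fix_iff hx hX).1 (hg x hx))
    exact rel_one h3
  · -- transitivity
    intro v hv
    exact Cfsg.Agent.H150.F43.Swap.exists_mulVec e3 v (by decide) hv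

end

end Cfsg.Agent.H98.F43
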