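import Cfsg.Agent.H98.F43.AbsE
import Cfsg.Agent.H700.F43.MdlI
import Cfsg.Agent.H874.F43.E2

/-!
# `F₄(3)` (S2465), block E: mixed elements commuting with a long root element (helper98)

`pr_mixed` : `g ∈ CZ` of order `2 ^ a * 3 ^ b`, `a, b ≥ 1`, is a product of two elements of order prime to `6`
(`SMALL` is the sieve).
-/

set_option autoImplicit false

namespace Cfsg.Agent.H98.F43

open Subgroup
open Cfsg.Lie Cfsg.Agent.H323.Pw Cfsg.Agent.H78.Pw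
open Cfsg.Agent.Nodes.RGDChev Cfsg.Agent.KFacts.RgdChevCoord
open Cfsg.Agent.H700.F43 Cfsg.Agent.H267.SpFx Cfsg.Agent.H150.F43.Step Cfsg.Agent.H98.Pw
open Cfsg.Agent.H750.F43 (CZ G3)

theorem kap_PP : Kap ff zP kp := Kap.mk' (xs_ff dat) kp_mul (kp_z dat) (kp_ker dat) kp_act

theorem two_ne : (2 : F3) ≠ 0 := by decide

theorem odd_rQ : ∀ r ∈ rQ, r < chevF4.nroots ∧ ¬ Even (vec chevF4 4 r 3) := by decide +kernel

theorem f3_neg : ∀ a : F3, a ≠ 0 → a ≠ 1 → a = -1 := by decide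

/-- the involution `h_θ(-1)` -/
noncomputable abbrev tw : Gm := H150.F43.t2 F3

/-- it inverts the root elements of `Q` -/
theorem tw_xp {r : ℕ} (hr : r ∈ rQ) : tw * xp r * tw⁻¹ = (xp r)⁻¹ := by
  obtain ⟨hq, hodd⟩ := odd_rQ r hr
  have h0 := (act H150.F43.hF hq (Cfsg.Agent.H557.Toral.th_mem H150.F43.hF
    (Cfsg.Agent.H557.SignTorus.sg F3 4 Cfsg.Agent.H557.OrbF4.n_TabC3A1))).1
  have h1 : _ ≠ (1 : F3) := fun h => hodd ((Cfsg.Agent.H557.SignTorus.ch_sg H150.F43.hF Cfsg.Agent.H557.InvF4.cs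
    Cfsg.Agent.H557.OrbF4.hcm (K := F3) (isRoot_vec H150.F43.hF _ hq) two_ne Cfsg.Agent.H557.OrbF4.n0_TabC3A1).1 h)
  have h3 := (act H150.F43.hF hq (Cfsg.Agent.H557.Toral.th_mem H150.F43.hF
    (Cfsg.Agent.H557.SignTorus.sg F3 4 Cfsg.Agent.H557.OrbF4.n_TabC3A1))).2 1
  rw [f3_neg _ h0 h1, mul_one] at h3
  have h4 : tw * xp r * tw⁻¹ = xr (r, false) := h3
  rw [h4, xr_false (rQ_lt r hr)]
  exact inv_of_cube (G := Gm) (x := xp r) (xp_cube (rQ_lt r hr))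

theorem kap_inv' {x : Gm} (hx : x ∈ QQ) : kap x⁻¹ = - kap x := by
  have h := kap_mul hx (inv_mem hx)
  rw [mul_inv_cancel, kap_one] at h
  exact (neg_eq_of_add_eq_zero_right h.symm).symm

theorem tw_QQ {x : Gm} (hx : x ∈ QQ) : tw * x * tw⁻¹ ∈ QQ ∧ kap (tw * x * tw⁻¹) = - kap x := by
  refine word_ind (P := fun x => tw * x * tw⁻¹ ∈ QQ ∧ kap (tw * x * tw⁻¹) = - kap x) rQ_lt ?_ ?_ hx
  · rw [mul_one, mul_inv_cancel, kap_one, neg_zero]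
    exact ⟨one_mem _, rfl⟩
  · rintro r hr g hg ⟨h1, h2⟩
    have h3 : xp r ∈ QQ := xp_mem hr
    have e : tw * (xp r * g) * tw⁻¹ = (xp r)⁻¹ * (tw * g * tw⁻¹) := by
      rw [← tw_xp hr]
      group
    rw [e, kap_mul (inv_mem h3) h1, h2, kap_mul h3 hg, kap_inv' h3, neg_add]
    exact ⟨mul_mem (inv_mem h3) h1, rfl⟩

theorem tw_PP : tw ∈ PP := by
  rw [H701.F43.CzP.mem_PP_iff]
  exact (H150.F43.commute_t2 two_ne (q := 47) (by decide) (by decide +kernel) 1).eq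

/-- `t₂` in `PP` -/
noncomputable def tP : ↥PP := ⟨tw, tw_PP⟩

theorem kp_tP : ∀ x ∈ ff.ker, kp (tP * x * tP⁻¹) = - kp x := fun _ hx => (tw_QQ (ker_mem.1 hx)).2

/-- the long root element of `C₃` -/
noncomputable def xP : ↥PP := ⟨xp 25, xp_PP (by decide)⟩

theorem ff_xP (y : V6) : (ff xP).1.mulVec y = y + ((1 : F3) * y (Sum.inr 2)) • e3 := by
  have h1 : (ff xP).1 = (uu (E3 2 2) (by decide)).1 := fm_25
  have h2 : y = Sum.elim (y ∘ Sum.inl) (y ∘ Sum.inr) := by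
    funext i
    rcases i with i | i <;> rfl
  rw [h1]
  conv_lhs => rw [h2]
  rw [H150.F43.Swap.uu_mulVec]
  funext i
  rcases i with i | i
  · fin_cases i <;> simp [E3, Matrix.mulVec, dotProduct, Fin.sum_univ_three, Matrix.single]
  · simp

theorem KK_PP : ∀ c : ↥PP, ff c * ff xP = ff xP * ff c → ∃ q ∈ ff.ker, c * q * xP = xP * (c * q) := by
  intro c hc
  obtain ⟨q, hq, m, hm, he⟩ := H267.F43.exists_qm c.2
  obtain ⟨q1, hq1⟩ : ∃ q1 : ↥PP, (q1 : Gm) = q := ⟨⟨q, QQ_le hq⟩, rfl⟩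
  obtain ⟨m1, hm1⟩ : ∃ m1 : ↥PP, (m1 : Gm) = m := ⟨⟨m, MM_le hm⟩, rfl⟩
  have hq2 : q1 ∈ ff.ker := ker_mem.2 (by rw [hq1]; exact hq)
  have hc1 : c = q1 * m1 := Subtype.ext (by rw [he, ← hq1, ← hm1]; rfl)
  have hfm : ff c = ff m1 := by rw [hc1, map_mul, (MonoidHom.mem_ker).1 hq2, one_mul]
  refine ⟨m1⁻¹ * q1⁻¹ * m1⁻¹⁻¹, ff.normal_ker.conj_mem _ (inv_mem hq2) _, ?_⟩
  have e1 : c * (m1⁻¹ * q1⁻¹ * m1⁻¹⁻¹) = m1 := by rw [hc1]; group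
  rw [e1]
  have hxM : xp 25 ∈ MM := xp_mem (by decide)
  have hk : (m * xp 25 * m⁻¹ * (xp 25)⁻¹) ∈ MM := mul_mem (mul_mem (mul_mem hm hxM) (inv_mem hm)) (inv_mem hxM)
  have h1 : ff (m1 * xP * m1⁻¹ * xP⁻¹) = 1 := by
    rw [map_mul, map_mul, map_mul, map_inv, map_inv, ← hfm, hc]
    group
  have h2 : ((m1 * xP * m1⁻¹ * xP⁻¹ : ↥PP) : Gm) = m * xp 25 * m⁻¹ * (xp 25)⁻¹ := by
    rw [← hm1]; rfl
  have h3 : fm (m * xp 25 * m⁻¹ * (xp 25)⁻¹) = 1 := by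
    rw [← h2]
    exact congrArg Subtype.val h1
  have h4 := H267.F43.mm_one hk h3
  apply Subtype.ext
  show (m1 : Gm) * xp 25 = xp 25 * m1
  rw [hm1]
  rw [mul_inv_eq_one, mul_inv_eq_iff_eq_mul] at h4
  exact h4

theorem E2_PP : ∀ (s w : ↥PP) (k : ℕ), s ^ 2 ^ k = 1 → tP⁻¹ * s ∈ ff.ker → w ∈ zpowers zP →
    Pr 6 ((s : Gm) * (w : Gm)) := by
  intro s w k hs hts hw
  have h1 : (tw⁻¹ * (s : Gm)) ∈ H701.F43.Cent.VV F3 := by
    rw [← H750.F43.VV_eq, ← dat.qv]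
    have h2 := ker_mem.1 hts
    rw [Subgroup.coe_mul, Subgroup.coe_inv] at h2
    exact h2
  refine H874.F43.pr_E2_t2 (K := F3) (by rw [Nat.card_zmod]) (s := (s : Gm)) (w := (w : Gm)) h1
    (m := 2 ^ k) (congrArg Subtype.val hs) (Nat.Coprime.pow_left k (by norm_num)) ?_ ?_
  · have h2 : (w : Gm) ∈ zpowers (xp 47) := (zpow_iff z_mem).1 hw
    refine (zpowers_le.2 ?_) h2
    exact (H25.F43.mem_XX H537.Pw.isType_F4 (by decide +kernel)).2 ⟨1, rfl⟩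
  · have h2 := (xs_ff dat).zc hw s
    rw [← Subgroup.coe_mul, ← Subgroup.coe_mul, h2]

/-- the parts of an element of order `2 ^ a * 3 ^ b` -/
theorem exists_parts {H : Type*} [Group H] {g : H} {a b : ℕ} (ho : orderOf g = 2 ^ a * 3 ^ b) :
    ∃ s u : H, s ^ 2 ^ a = 1 ∧ u ^ 3 ^ b = 1 ∧ s * u = u * s ∧ s * u = g ∧ (1 ≤ a → s ≠ 1) ∧ (1 ≤ b → u ≠ 1) := by
  have hco : IsCoprime ((2 ^ a : ℕ) : ℤ) ((3 ^ b : ℕ) : ℤ) :=
    Nat.isCoprime_iff_coprime.2 (Nat.Coprime.pow a b (by norm_num))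
  obtain ⟨x, y, hxy⟩ := hco
  have hg : g ^ (2 ^ a * 3 ^ b) = 1 := by rw [← ho, pow_orderOf_eq_one]
  have hsu : g ^ (y * ((3 ^ b : ℕ) : ℤ)) * g ^ (x * ((2 ^ a : ℕ) : ℤ)) = g := by
    rw [← zpow_add, add_comm, hxy, zpow_one]
  have hs : (g ^ (y * ((3 ^ b : ℕ) : ℤ))) ^ 2 ^ a = 1 := by
    rw [← zpow_natCast, ← zpow_mul, mul_assoc, mul_comm y, zpow_mul, ← Nat.cast_mul, mul_comm (3 ^ b), zpow_natCast, hg,
      one_zpow]
  have hu : (g ^ (x * ((2 ^ a : ℕ) : ℤ))) ^ 3 ^ b = 1 := by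
    rw [← zpow_natCast, ← zpow_mul, mul_assoc, mul_comm x, zpow_mul, ← Nat.cast_mul, zpow_natCast, hg, one_zpow]
  refine ⟨g ^ (y * ((3 ^ b : ℕ) : ℤ)), g ^ (x * ((2 ^ a : ℕ) : ℤ)), hs, hu, ?_, hsu, ?_, ?_⟩
  · rw [← zpow_add, ← zpow_add, add_comm]
  · intro ha h1
    rw [h1, one_mul] at hsu
    rw [hsu] at hu
    have h2 := orderOf_dvd_of_pow_eq_one hu
    rw [ho] at h2
    have h3 : 2 ∣ 3 ^ b := dvd_trans (dvd_mul_of_dvd_left (dvd_pow_self 2 (by omega)) _) h2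
    have h4 := Nat.Prime.dvd_of_dvd_pow Nat.prime_two h3
    omega
  · intro hb h1
    rw [h1, mul_one] at hsu
    rw [hsu] at hs
    have h2 := orderOf_dvd_of_pow_eq_one hs
    rw [ho] at h2
    have h3 : 3 ∣ 2 ^ a := dvd_trans (dvd_mul_of_dvd_right (dvd_pow_self 3 (by omega)) _) h2
    have h4 := Nat.Prime.dvd_of_dvd_pow Nat.prime_three h3
    omega

/-- **Block E, mixed elements.** -/
theorem pr_mixed (SMALL : ∀ g : G3, Nat.card (centralizer ({g} : Set G3)) ≤ 4976985092 → Pr 6 g) {g : G3}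
    (hg : g ∈ CZ) {a b : ℕ} (ha : 1 ≤ a) (hb : 1 ≤ b) (ho : orderOf g = 2 ^ a * 3 ^ b) : Pr 6 g := by
  obtain ⟨g1, hg1⟩ : ∃ g1 : ↥PP, (g1 : Gm) = g := ⟨⟨g, cz.le hg⟩, rfl⟩
  have ho1 : orderOf g1 = 2 ^ a * 3 ^ b := by rw [← ho, ← hg1, Subgroup.orderOf_coe]
  obtain ⟨s, u, hs, hu, hc, hsu, hs1, hu1⟩ := exists_parts ho1
  obtain ⟨n, n1, n2⟩ := H150.F43.Swap.exists_swap_eq (K := F3)
  have h1 : Pr 6 ((s : Gm) * (u : Gm)) :=
    pr_abs (G := Gm) (H := PP) (z := zP) (fun g => H701.F43.CzP.mem_PP_iff) ff ff_surj (xs_ff dat) (card_ker dat)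
      kap_PP SMALL (t := tP) kp_tP E2_PP (xb := xP) (c := 1) one_ne_zero ff_xP KK_PP (n := n) (n1 1) (n2 1) hs hu hc
      (hs1 ha) (hu1 hb)
  rw [← hg1, ← hsu]
  exact h1

end Cfsg.Agent.H98.F43
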